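import Mathlib
import Groth.Agent.Lib.Helper5.SD.GGIff
import Groth.Agent.Lib.Helper5.SD.NefGen
import Groth.Agent.Lib.Helper5.Curve6.PtSeq
import Groth.Agent.Lib.Lead.Bdd.RegBdd
import Groth.Agent.Lib.Lead.CohLES.H0
import Groth.Agent.Lib.Lead.Curve.DegMono
import Groth.Agent.Lib.Lead.QC.TwistExt
import Groth.Agent.Lib.Lead.DF.ZProp

/-!
# `H¹(E ⊗ I_p) = 0` for globally generated `E` on a proper curve with `H¹(O) = 0`.
-/

set_option autoImplicit false
universe u
open CategoryTheory CategoryTheory.Limits AlgebraicGeometry TopologicalSpace Opposite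

namespace Groth.Agent.H5.PtH1

open Groth.Agent.LD Groth.Agent.LD.QC

variable (k : Type u) [Field k] (X : Scheme.{u}) [X.Over (Spec (CommRingCat.of k))]
  [IsProper (X ↘ Spec (CommRingCat.of k))]

/-- `Γ(O) → Γ(O/J)` is surjective when `h⁰(O/J) = 1`. -/
theorem surjective_toSubscheme_app_top (J : X.IdealSheafData)
    (h1 : Module.finrank k (Coh.HH X (ClSub.quotMod J) 0) = 1) :
    Function.Surjective ((ClSub.toSubscheme J).app ⊤) := by
  let g : unitMod X ⟶ ClSub.quotMod J := ClSub.toSubscheme J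
  haveI : Epi g := (Groth.Agent.LD.PD.shortExact_idealMod J).epi_g
  have hfr : Module.finrank k (unitMod X ⟶ ClSub.quotMod J) = 1 := by
    rw [← Groth.Agent.H5.SD.finrank_H0_eq_finrank_hom k (ClSub.quotMod J)]
    exact h1
  have hg0 : g ≠ 0 := by
    intro h0
    have hz : IsZero (ClSub.quotMod J) := IsZero.of_epi_eq_zero g h0
    haveI : Subsingleton (unitMod X ⟶ ClSub.quotMod J) := ⟨fun a b => hz.eq_of_tgt a b⟩
    rw [Module.finrank_zero_of_subsingleton] at hfr
    exact zero_ne_one hfr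
  intro t
  obtain ⟨a, ha⟩ := (finrank_eq_one_iff_of_nonzero' g hg0).mp hfr (homOfSection _ t)
  refine ⟨X.presheaf.map (homOfLE (le_top : (⊤ : X.Opens) ≤ ⊤)).op
    (Coh.toGlobal (X ↘ Spec (CommRingCat.of k)) a) • (1 : Γ(X, ⊤)), ?_⟩
  have h2 := congrArg sectionOfHom ha
  rw [sectionOfHom_homOfSection] at h2
  rw [← h2]
  change g.app ⊤ _ = (a • g).app ⊤ (1 : Γ(X, ⊤))
  rw [KLin.smul_app_apply]
  exact Scheme.Modules.Hom.app_smul g _ _

/-- `H¹(I_p) = 0` when `H¹(O) = 0`, over an algebraically closed field. -/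
theorem subsingleton_H1_idealMod_point [IsAlgClosed k]
    (hg : Subsingleton (Coh.HH X (Coh.structureModule X) 1)) (p : X)
    (hp : IsClosed ({p} : Set X)) :
    Subsingleton (Coh.HH X (ClSub.idealMod
      (Scheme.IdealSheafData.vanishingIdeal (⟨{p}, hp⟩ : Closeds X))) 1) := by
  have hv : Groth.Agent.H5.Snap.vI p =
      Scheme.IdealSheafData.vanishingIdeal (⟨{p}, hp⟩ : Closeds X) :=
    congrArg Scheme.IdealSheafData.vanishingIdeal (Closeds.ext hp.closure_eq)
  have h1 : Module.finrank k (Coh.HH X (ClSub.quotMod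
      (Scheme.IdealSheafData.vanishingIdeal (⟨{p}, hp⟩ : Closeds X))) 0) = 1 := by
    rw [← hv]
    exact Groth.Agent.H5.Curve6.finrank_H0_quotMod_vI k X p
  have hs := surjective_toSubscheme_app_top k X _ h1
  have hinj := CL.injective_HHmapZ_one_of_surjective (Groth.Agent.LD.PD.shortExact_idealMod _) hs
  exact hinj.subsingleton

variable {X}

omit [IsProper (X ↘ Spec (CommRingCat.of k))] in
include k in
theorem subsingleton_HH_of_iso {M N : X.Modules} (e : M ≅ N) (i : ℕ)
    (h : Subsingleton (Coh.HH X N i)) : Subsingleton (Coh.HH X M i) := by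
  have hinj : Function.Injective (CL.HHmap k e.hom i) := by
    intro x y hxy
    have h1 := congrArg (CL.HHmap k e.inv i) hxy
    rw [← LinearMap.comp_apply, ← LinearMap.comp_apply, ← CL.HHmap_comp, e.hom_inv_id,
      CL.HHmap_id] at h1
    exact h1
  exact hinj.subsingleton

include k in
/-- `H¹` is right exact in dimension `≤ 1`. -/
theorem subsingleton_H1_of_epi (hdim : topologicalKrullDim X ≤ 1) {A B : X.Modules}
    (hA : Coh.IsCoh A) (hB : Coh.IsCoh B) (φ : A ⟶ B) [Epi φ]
    (h : Subsingleton (Coh.HH X A 1)) : Subsingleton (Coh.HH X B 1) := by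
  haveI := Curve.isLocallyNoetherian k X
  have hK : Coh.IsCoh (kernel φ) := isCoh_kernel φ hA hB
  haveI := hK.1
  let S' : ShortComplex X.Modules := ShortComplex.mk (kernel.ι φ) φ (kernel.condition φ)
  have hS' : S'.ShortExact :=
    { exact := ShortComplex.exact_of_f_is_kernel _ (kernelIsKernel φ)
      mono_f := inferInstanceAs (Mono (kernel.ι φ))
      epi_g := inferInstanceAs (Epi φ) }
  exact CL.subsingleton_right hS' 1 h
    (Curve.subsingleton_HH_of_two_le k X hdim (kernel φ) 2 le_rfl)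

omit [IsProper (X ↘ Spec (CommRingCat.of k))] in
include k in
/-- `H¹((O^N) ⊗ I) = 0` when `H¹(I) = 0`. -/
theorem subsingleton_H1_free_tensor (I : X.Modules) (N : ℕ)
    (h : Subsingleton (Coh.HH X I 1)) :
    Subsingleton (Coh.HH X (CohB1.tensorMod (FlatMod.freeMod X N) I) 1) := by
  let T := twF I
  have hOI : Subsingleton (Coh.HH X (T.obj (unitMod X)) 1) :=
    subsingleton_HH_of_iso k (unitorL' I) 1 h
  have hid : 𝟙 (T.obj (FlatMod.freeMod X N)) =
      ∑ j : Fin N, T.map (SC.sigmaProj (unitMod X) N j) ≫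
        T.map (Limits.Sigma.ι (fun _ : Fin N => unitMod X) j) := by
    rw [← T.map_id]
    have h0 : 𝟙 (FlatMod.freeMod X N) = ∑ j : Fin N, SC.sigmaProj (unitMod X) N j ≫
        Limits.Sigma.ι (fun _ : Fin N => unitMod X) j := (SC.sigmaProj_total (unitMod X) N).symm
    rw [h0, T.map_sum]
    apply Finset.sum_congr rfl
    intro j _
    rw [T.map_comp]
  refine ⟨fun x y => ?_⟩
  have key : ∀ z : Coh.HH X (T.obj (FlatMod.freeMod X N)) 1, z = 0 := by
    intro z
    have h1 : z = CL.HHmap k (𝟙 (T.obj (FlatMod.freeMod X N))) 1 z := by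
      rw [CL.HHmap_id]
      rfl
    rw [h1, hid, CL.HHmap_sum, LinearMap.sum_apply]
    apply Finset.sum_eq_zero
    intro j _
    rw [CL.HHmap_comp, LinearMap.comp_apply,
      hOI.elim (CL.HHmap k (T.map (SC.sigmaProj (unitMod X) N j)) 1 z) 0, map_zero]
  exact (key x).trans (key y).symm

variable (X)

/-- **S17651.** -/
theorem main [IsAlgClosed k] (hdim : topologicalKrullDim X ≤ 1)
    (hg : Subsingleton (Coh.HH X (Coh.structureModule X) 1))
    (E : X.Modules) (hE : FlatMod.IsFinLocFree E) (hgg : Curv2.IsGloballyGenerated E)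
    (p : X) (hp : IsClosed ({p} : Set X)) :
    Subsingleton (Coh.HH X (CohB1.tensorMod E (ClSub.idealMod
      (Scheme.IdealSheafData.vanishingIdeal (⟨{p}, hp⟩ : Closeds X)))) 1) := by
  haveI : IsNoetherian X := Groth.Agent.H5.Curve2.isNoetherian_of_proper k X
  have hEc : Coh.IsCoh E := Curve.isCoh_of_isFinLocFree hE
  obtain ⟨π, hπ⟩ := Bdd.exists_epi_freeMod_of_le k X E hEc hgg _ le_rfl
  have hI1 := subsingleton_H1_idealMod_point k X hg p hp
  have hOc := PF.isCoh_unitMod X
  have hIc : Coh.IsCoh (ClSub.idealMod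
      (Scheme.IdealSheafData.vanishingIdeal (⟨{p}, hp⟩ : Closeds X))) :=
    isCoh_of_mono (ClSub.idealModι _) inferInstance hOc
  let T := twF (ClSub.idealMod (Scheme.IdealSheafData.vanishingIdeal (⟨{p}, hp⟩ : Closeds X)))
  haveI : T.PreservesEpimorphisms := preservesEpimorphisms_of_preservesColimitsOfShape _
  let φ : CohB1.tensorMod (FlatMod.freeMod X (Module.finrank k (Coh.HH X E 0)))
      (ClSub.idealMod (Scheme.IdealSheafData.vanishingIdeal (⟨{p}, hp⟩ : Closeds X))) ⟶
    CohB1.tensorMod E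
      (ClSub.idealMod (Scheme.IdealSheafData.vanishingIdeal (⟨{p}, hp⟩ : Closeds X))) := T.map π
  haveI : Epi φ := T.map_epi π
  have hZ := subsingleton_H1_free_tensor k _ (Module.finrank k (Coh.HH X E 0)) hI1
  exact subsingleton_H1_of_epi k hdim
    (Groth.Agent.H5.DegC.isCoh_tensorMod' (DF.isCoh_freeMod X _) hIc)
    (Groth.Agent.H5.DegC.isCoh_tensorMod' hEc hIc) φ hZ

end Groth.Agent.H5.PtH1
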